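import Cfsg.Agent.Lib.Schur.Basic
import Cfsg.Agent.Lib.Char.Kernel
import Mathlib.GroupTheory.FiniteAbelian.Duality
import Mathlib.LinearAlgebra.Matrix.GeneralLinearGroup.Basic

set_option autoImplicit false
open Cfsg Subgroup commutatorElement

namespace Cfsg.Agent.Schur

universe u v w

section pb
variable {E G U : Type*} [Group E] [Group G] [Group U]

/-- pullback -/
def pb (π : E →* G) (σ : U →* G) : Subgroup (U × E) :=
  (σ.comp (MonoidHom.fst _ _)).eqLocus (π.comp (MonoidHom.snd _ _))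

/-- first projection of the pullback -/
def pb1 (π : E →* G) (σ : U →* G) : pb π σ →* U := (MonoidHom.fst _ _).comp (pb π σ).subtype

/-- second projection of the pullback -/
def pb2 (π : E →* G) (σ : U →* G) : pb π σ →* E := (MonoidHom.snd _ _).comp (pb π σ).subtype

theorem pb_comm (π : E →* G) (σ : U →* G) (x : pb π σ) : π (pb2 π σ x) = σ (pb1 π σ x) := x.2.symm

theorem pb_ext {π : E →* G} {σ : U →* G} {x y : pb π σ} (h1 : pb1 π σ x = pb1 π σ y)
    (h2 : pb2 π σ x = pb2 π σ y) : x = y := Subtype.ext (Prod.ext h1 h2)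

theorem pb_CE {π : E →* G} (h : CE π) (σ : U →* G) : CE (pb1 π σ) := by
  refine ⟨fun q => ?_, fun z hz => ?_⟩
  · obtain ⟨e, he⟩ := h.surj (σ q); exact ⟨⟨(q, e), he.symm⟩, rfl⟩
  · have h1 : pb1 π σ z = 1 := hz
    have h2 : π (pb2 π σ z) = 1 := by rw [pb_comm, h1, map_one]
    rw [mem_center_iff]; intro g
    exact pb_ext (by simp [h1]) (by simp [cent_comm h.cent h2])

theorem u_lift' {Q : Type u} [Group Q] {π : E →* G} (h : CE π) (σ : Q →* G) :
    ∃ η : UU Q →* E, ∀ e, π (η e) = σ (uπ Q e) := by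
  obtain ⟨η, hη⟩ := u_lift (pb_CE h σ)
  exact ⟨(pb2 π σ).comp η, fun e => by rw [MonoidHom.comp_apply, pb_comm, hη]⟩

end pb

theorem hasSchur_one_of {G : Type u} [Group G] [Finite G]
    (h : ∀ (E : Type u) [Group E] [Finite E] (σ : E →* G), IsStemExtension σ → σ.ker = ⊥) :
    HasCyclicSchurMultiplier G 1 := by
  obtain ⟨Γ, i1, i2, σ, β, hc⟩ := exists_cover G
  rw [hasSchur_one_iff, eq_bot_iff]
  intro e he
  exact hc.inj e he (mem_bot.1 ((h Γ σ hc.stem).le ((hc.over e).trans he.1)))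

theorem exists_extend {E D : Type*} [Group E] [CommGroup D]
    (hD : ∀ n : ℕ, n ≠ 0 → ∀ d : D, ∃ x, x ^ n = d) {S : Subgroup E}
    (hS : S ⊓ commutator E = ⊥) (f : S →* D) : ∃ δ : E →* D, ∀ s : S, δ s = f s := by
  let i : S →* Abelianization E := Abelianization.of.comp S.subtype
  have hi : Function.Injective i := by
    rw [injective_iff_map_eq_one]
    intro s hs
    exact Subtype.ext (mem_bot.1 (hS.le ⟨s.2, (Abelianization.ker_of E).le hs⟩))
  letI : CommGroup S := { (inferInstance : Group S) with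
    mul_comm := fun a b => hi (by rw [map_mul, map_mul, mul_comm]) }
  haveI : DivisibleBy (Additive D) ℕ := divisibleByOfSMulRightSurj _ _ (fun {n} hn d => by
    obtain ⟨x, hx⟩ := hD n hn d.toMul
    exact ⟨Additive.ofMul x, congrArg Additive.ofMul hx⟩)
  haveI : DivisibleBy (Additive D) ℤ := AddGroup.divisibleByIntOfDivisibleByNat _
  obtain ⟨g, hg⟩ := (Module.Baer.of_divisible (Additive D)).extension_property_addMonoidHom
    (MonoidHom.toAdditive i) hi (MonoidHom.toAdditive f)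
  exact ⟨(MonoidHom.toAdditive.symm g).comp Abelianization.of, fun s => DFunLike.congr_fun hg s⟩

theorem Cover.lift_of {Q : Type u} [Group Q] {Γ : Type*} [Group Γ] {σ : Γ →* Q}
    {β : UU Q →* Γ} (h : Cover σ β) {X G : Type*} [Group X] [Group G] {ξ : X →* G} (hξ : CE ξ)
    (γ : Q →* G) (hx : ∀ f : β.ker →* ξ.ker, ∃ δ : UU Q →* ξ.ker, ∀ s : β.ker, δ s = f s) :
    ∃ ρ : Γ →* X, ∀ g, ξ (ρ g) = γ (σ g) := by
  obtain ⟨η, hη⟩ := u_lift' hξ γ
  obtain ⟨δ, hδ⟩ := hx ((η.comp β.ker.subtype).codRestrict _ (fun s => by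
    rw [MonoidHom.mem_ker, MonoidHom.comp_apply, hη, show uπ Q (β.ker.subtype s) = 1 from h.ker_le s.2,
      map_one]))
  let ρ : UU Q →* X := MonoidHom.mk' (fun e => η e * (δ e : X)⁻¹) (fun a b => by
    have := cent_comm hξ.cent (inv_mem (δ a).2) (η b * (δ b : X)⁻¹)
    simp only [map_mul, coe_mul, mul_inv_rev]
    rw [mul_assoc (η a) (δ a : X)⁻¹, ← this]; group)
  have hρ : β.ker ≤ ρ.ker := fun s hs => by
    have := congrArg Subtype.val (hδ ⟨s, hs⟩)
    show η s * (δ s : X)⁻¹ = 1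
    rw [this]; exact mul_inv_cancel _
  refine ⟨β.liftOfSurjective h.surj ⟨ρ, hρ⟩, fun g => ?_⟩
  obtain ⟨e, rfl⟩ := h.surj g
  simp only [MonoidHom.liftOfRightInverse_comp_apply, h.over]
  show ξ (η e * (δ e : X)⁻¹) = _
  rw [map_mul, map_inv, show ξ (δ e) = 1 from (δ e).2, hη]; simp

theorem Cover.ker_inf {Q : Type u} [Group Q] {Γ : Type*} [Group Γ] {σ : Γ →* Q}
    {β : UU Q →* Γ} (h : Cover σ β) : β.ker ⊓ commutator (UU Q) = ⊥ :=
  eq_bot_iff.2 fun _ he => h.inj_comm he.2 he.1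

theorem pgl_CE (n : ℕ) : CE (QuotientGroup.mk' (center (GL (Fin n) ℂ))) :=
  ⟨QuotientGroup.mk'_surjective _, (QuotientGroup.ker_mk' _).le⟩

theorem Cover.lift_pgl {Q : Type u} [Group Q] {Γ : Type*} [Group Γ] {σ : Γ →* Q}
    {β : UU Q →* Γ} (h : Cover σ β) (n : ℕ) (γ : Q →* (GL (Fin n) ℂ ⧸ center (GL (Fin n) ℂ))) :
    ∃ ρ : Γ →* GL (Fin n) ℂ, (QuotientGroup.mk' (center (GL (Fin n) ℂ))).comp ρ = γ.comp σ := by
  obtain ⟨ρ, hρ⟩ := h.lift_of (pgl_CE n) γ (fun f => by
    letI : CommGroup (QuotientGroup.mk' (center (GL (Fin n) ℂ))).ker :=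
      { (inferInstance : Group _) with
        mul_comm := fun a b => Subtype.ext (cent_comm (pgl_CE n).cent b.2 _) }
    refine exists_extend (fun k hk d => ?_) h.ker_inf f
    obtain ⟨c, hc⟩ := Matrix.GeneralLinearGroup.center_eq_range_scalar.le ((pgl_CE n).cent d.2)
    obtain ⟨x, hx⟩ := IsAlgClosed.exists_pow_nat_eq (c : ℂ) (Nat.pos_of_ne_zero hk)
    have hx0 : x ≠ 0 := by rintro rfl; rw [zero_pow hk] at hx; exact c.ne_zero hx.symm
    refine ⟨⟨Matrix.GeneralLinearGroup.scalar (Fin n) (Units.mk0 x hx0), ?_⟩, Subtype.ext ?_⟩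
    · rw [QuotientGroup.ker_mk', Matrix.GeneralLinearGroup.center_eq_range_scalar]; exact ⟨_, rfl⟩
    · show _ ^ k = _
      rw [← hc, ← map_pow]; congr 1; exact Units.ext hx)
  exact ⟨ρ, MonoidHom.ext hρ⟩

theorem exists_rep {Γ : Type*} [Group Γ] [Finite Γ] {z : Γ} (hz : z ≠ 1) :
    ∃ (n : ℕ) (ρ : Γ →* GL (Fin n) ℂ), (∀ a ∈ center Γ, ρ a ∈ center (GL (Fin n) ℂ)) ∧ ρ z ≠ 1 := by
  obtain ⟨χ, hχ⟩ : ∃ χ : IrrCharacter Γ, χ.1 z ≠ χ.1 1 := by
    by_contra hcon
    push Not at hcon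
    have h1 := Char.sum_degree_mul z
    have h2 := Char.sum_degree_mul (1 : Γ)
    simp only [hcon] at h1
    rw [h1, Char.regChar_of_ne hz, Char.regChar_one] at h2
    exact Nat.card_pos.ne' (by exact_mod_cast h2.symm)
  obtain ⟨χ, hc⟩ := χ
  have hc' := hc
  obtain ⟨n, ρ, hρ, rfl⟩ := hc'
  let e := (LinearMap.toMatrixAlgEquiv' : ((Fin n → ℂ) →ₗ[ℂ] (Fin n → ℂ)) ≃ₐ[ℂ] Matrix (Fin n) (Fin n) ℂ)
  refine ⟨n, (Units.map e.toRingEquiv.toMonoidHom).comp (MonoidHom.toHomUnits ρ), fun a ha => ?_, fun h => ?_⟩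
  · have h1 := (hc.isCharacter.mem_charCenter).1 (hc.center_le_charCenter ha)
    rw [Representation.char_one] at h1
    obtain ⟨ω, -, h2⟩ := (Char.norm_character_eq_iff ρ a).1 (by simpa using h1)
    rw [mem_center_iff]; intro g
    apply Units.ext
    show g.1 * e (ρ a) = e (ρ a) * g.1
    rw [h2, map_smul, show (LinearMap.id : (Fin n → ℂ) →ₗ[ℂ] _) = 1 from rfl, map_one]
    simp
  · apply hχ
    have : e (ρ z) = 1 := congrArg Units.val h
    have h2 : ρ z = 1 := e.injective (by rw [this, map_one])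
    show ρ.character z = ρ.character 1
    simp only [Representation.character, h2, map_one]

theorem cover_of_lift {Q : Type u} [Group Q] [Finite Q] {Γ : Type*} [Group Γ] {σ : Γ →* Q}
    (hσ : IsStemExtension σ)
    (hlift : ∀ (n : ℕ) (γ : Q →* (GL (Fin n) ℂ ⧸ center (GL (Fin n) ℂ))), ∃ ρ : Γ →* GL (Fin n) ℂ,
      (QuotientGroup.mk' (center (GL (Fin n) ℂ))).comp ρ = γ.comp σ) : ∃ β, Cover σ β := by
  obtain ⟨β, hβ⟩ := u_lift (stem_CE hσ)
  refine ⟨β, hσ, hβ, fun e he h1 => ?_⟩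
  obtain ⟨Δ, i1, i2, τ, δ, hc⟩ := exists_cover Q
  by_contra hne
  obtain ⟨n, ρ0, h2, h3⟩ := exists_rep (z := δ e) (fun h => hne (hc.inj e he h))
  let γ := τ.liftOfSurjective hc.stem.1 ⟨(QuotientGroup.mk' (center (GL (Fin n) ℂ))).comp ρ0,
    fun a ha => (QuotientGroup.eq_one_iff _).2 (h2 a (hc.stem.2.1 ha))⟩
  obtain ⟨ρ, hρ⟩ := hlift n γ
  have := eqOn_comm (pgl_CE n).cent (η := ρ.comp β) (η' := ρ0.comp δ) (fun x => by
    have h4 := DFunLike.congr_fun hρ (β x)
    simp only [MonoidHom.comp_apply] at h4 ⊢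
    rw [h4, hβ, ← hc.over]
    simp [γ]) he.2
  simp only [MonoidHom.comp_apply, h1, map_one] at this
  exact h3 this.symm

theorem pow_index_mem {E : Type*} [Group E] {H : Subgroup E} [H.FiniteIndex] {z : E} (hz : z ∈ H)
    (hc : z ∈ center E) (hd : z ∈ commutator E) : z ^ H.index ∈ ⁅H, H⁆ := by
  have h1 := MonoidHom.transfer_eq_pow (Abelianization.of : H →* Abelianization H) z (fun k g _ => by
    rw [mul_assoc, ← mem_center_iff.1 (pow_mem hc k) g]; simp)
  have h2 := Abelianization.commutator_subset_ker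
    (MonoidHom.transfer (Abelianization.of : H →* Abelianization H)) hd
  rw [MonoidHom.mem_ker, h1, ← MonoidHom.mem_ker, Abelianization.ker_of] at h2
  rw [← map_subtype_commutator]
  exact ⟨_, h2, rfl⟩

theorem exists_sub_of_surj {B C : Type*} [CommGroup B] [CommGroup C] [Finite B] {f : B →* C}
    (hf : Function.Surjective f) : ∃ g : C →* B, Function.Injective g := by
  haveI : Finite C := Finite.of_surjective f hf
  haveI : NeZero ((Monoid.exponent B : ℕ) : ℂ) := ⟨by exact_mod_cast Monoid.exponent_ne_zero_of_finite⟩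
  haveI : NeZero ((Monoid.exponent C : ℕ) : ℂ) := ⟨by exact_mod_cast Monoid.exponent_ne_zero_of_finite⟩
  obtain ⟨e1⟩ := CommGroup.monoidHom_mulEquiv_of_hasEnoughRootsOfUnity B ℂ
  obtain ⟨e2⟩ := CommGroup.monoidHom_mulEquiv_of_hasEnoughRootsOfUnity C ℂ
  let k : (C →* ℂˣ) →* (B →* ℂˣ) := MonoidHom.mk' (fun φ => φ.comp f) (fun _ _ => rfl)
  have hk : Function.Injective k := fun φ ψ h => MonoidHom.ext fun c => by
    obtain ⟨b, rfl⟩ := hf c; exact DFunLike.congr_fun h b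
  exact ⟨e1.toMonoidHom.comp (k.comp e2.symm.toMonoidHom), e1.injective.comp (hk.comp e2.symm.injective)⟩

/-- restriction of a central extension to the preimage of a subgroup -/
def resCE {E G : Type*} [Group E] [Group G] (σ : E →* G) (U : Subgroup G) : U.comap σ →* U :=
  (σ.comp (U.comap σ).subtype).codRestrict U (fun x => x.2)

theorem res_CE {E G : Type*} [Group E] [Group G] {σ : E →* G} (h : CE σ) (U : Subgroup G) :
    CE (resCE σ U) := by
  refine ⟨fun q => ?_, fun z hz => ?_⟩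
  · obtain ⟨e, he⟩ := h.surj q
    exact ⟨⟨e, show σ e ∈ U from he ▸ q.2⟩, Subtype.ext he⟩
  · rw [mem_center_iff]; intro g
    exact Subtype.ext (cent_comm h.cent (congrArg Subtype.val hz) _)

theorem map_MM_res {E G : Type*} [Group E] [Group G] (σ : E →* G) (U : Subgroup G) :
    (MM (resCE σ U)).map (U.comap σ).subtype = σ.ker ⊓ ⁅U.comap σ, U.comap σ⁆ := by
  rw [← map_subtype_commutator]
  ext x
  constructor
  · rintro ⟨y, hy, rfl⟩; exact ⟨congrArg Subtype.val hy.1, y, hy.2, rfl⟩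
  · rintro ⟨h1, y, hy, rfl⟩; exact ⟨y, ⟨Subtype.ext h1, hy⟩, rfl⟩

section cocycle
variable {Q A : Type*} [Group Q] [CommGroup A]

/-- the extension defined by a bimultiplicative map -/
@[ext] structure BExt (c : Q →* Q →* A) where
  /-- kernel coordinate -/
  a : A
  /-- quotient coordinate -/
  q : Q

namespace BExt
variable {c : Q →* Q →* A}

instance instMul : Mul (BExt c) := ⟨fun x y => ⟨x.a * y.a * c x.q y.q, x.q * y.q⟩⟩
instance instOne : One (BExt c) := ⟨⟨1, 1⟩⟩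
instance instInv : Inv (BExt c) := ⟨fun x => ⟨x.a⁻¹ * c x.q x.q, x.q⁻¹⟩⟩
@[simp] theorem mul_a (x y : BExt c) : (x * y).a = x.a * y.a * c x.q y.q := rfl
@[simp] theorem mul_q (x y : BExt c) : (x * y).q = x.q * y.q := rfl
@[simp] theorem one_a : (1 : BExt c).a = 1 := rfl
@[simp] theorem one_q : (1 : BExt c).q = 1 := rfl
@[simp] theorem inv_a (x : BExt c) : (x⁻¹).a = x.a⁻¹ * c x.q x.q := rfl
@[simp] theorem inv_q (x : BExt c) : (x⁻¹).q = x.q⁻¹ := rfl

instance instGroup : Group (BExt c) := Group.ofLeftAxioms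
  (fun x y z => by ext <;> simp [mul_assoc, mul_comm, mul_left_comm])
  (fun x => by ext <;> simp) (fun x => by ext <;> simp)

instance instFinite [Finite Q] [Finite A] : Finite (BExt c) :=
  Finite.of_injective (fun x => (x.a, x.q)) (fun _ _ h => BExt.ext (congrArg Prod.fst h) (congrArg Prod.snd h))

/-- projection -/
def proj (c : Q →* Q →* A) : BExt c →* Q := MonoidHom.mk' (fun x => x.q) (fun _ _ => rfl)

@[simp] theorem proj_apply (x : BExt c) : proj c x = x.q := rfl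

theorem proj_CE : CE (proj c) := by
  refine ⟨fun q => ⟨⟨1, q⟩, rfl⟩, fun z hz => ?_⟩
  have : z.q = 1 := hz
  rw [mem_center_iff]; intro g
  ext <;> simp [this, mul_comm]

/-- inclusion -/
def inl (c : Q →* Q →* A) : A →* BExt c := MonoidHom.mk' (fun a => ⟨a, 1⟩) (fun _ _ => by ext <;> simp)

@[simp] theorem inl_a (x : A) : (inl c x).a = x := rfl
@[simp] theorem inl_q (x : A) : (inl c x).q = 1 := rfl

theorem inl_inj : Function.Injective (inl c) := fun _ _ h => congrArg BExt.a h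

theorem range_inl : (inl c).range = (proj c).ker := by
  ext x
  constructor
  · rintro ⟨a, rfl⟩; exact (rfl : (1 : Q) = 1)
  · intro h; exact ⟨x.a, BExt.ext rfl (show x.q = 1 from h).symm⟩

theorem comm_a (x y : BExt c) : ⁅x, y⁆.a = c x.q y.q * (c y.q x.q)⁻¹ := by
  simp only [commutatorElement_def, mul_a, mul_q, inv_a, inv_q, map_mul, map_inv, MonoidHom.mul_apply,
    MonoidHom.inv_apply]
  apply Additive.ofMul.injective
  simp only [ofMul_mul, ofMul_inv]
  abel

theorem comm_q (x y : BExt c) : ⁅x, y⁆.q = ⁅x.q, y.q⁆ := rfl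

theorem inl_mem {x y : Q} (h : x * y = y * x) : inl c (c x y * (c y x)⁻¹) ∈ commutator (BExt c) := by
  have : inl c (c x y * (c y x)⁻¹) = ⁅(⟨1, x⟩ : BExt c), ⟨1, y⟩⁆ :=
    BExt.ext (by rw [comm_a]; rfl) (by
      rw [comm_q]; exact (commutatorElement_eq_one_iff_mul_comm.2 h).symm)
  rw [this]; exact commutator_mem_commutator (mem_top _) (mem_top _)

end BExt
end cocycle

end Cfsg.Agent.Schur
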