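import Cfsg.Prelude.Def_KGroupFacts
import Mathlib.GroupTheory.Schreier
import Mathlib.GroupTheory.FreeGroup.NielsenSchreier
import Mathlib.GroupTheory.FreeAbelianGroup
import Mathlib.LinearAlgebra.FreeModule.PID
import Mathlib.Algebra.FreeAbelianGroup.Finsupp
import Mathlib.Algebra.Category.Grp.Injective
import Mathlib.GroupTheory.Transfer

set_option autoImplicit false
open Cfsg Subgroup commutatorElement

namespace Cfsg.Agent.Schur

universe u v w

section basic
variable {Γ Q X E : Type*} [Group Γ] [Group Q] [Group X] [Group E]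

/-- central extension -/
structure CE (σ : Γ →* Q) : Prop where
  surj : Function.Surjective σ
  cent : σ.ker ≤ center Γ

/-- the part of the kernel inside the derived subgroup -/
def MM (σ : Γ →* Q) : Subgroup Γ := σ.ker ⊓ commutator Γ

theorem mem_MM {σ : Γ →* Q} {x : Γ} : x ∈ MM σ ↔ σ x = 1 ∧ x ∈ commutator Γ := Iff.rfl

theorem stem_CE {σ : Γ →* Q} (h : IsStemExtension σ) : CE σ := ⟨h.1, h.2.1⟩

theorem stem_MM {σ : Γ →* Q} (h : IsStemExtension σ) : MM σ = σ.ker := inf_eq_left.2 h.2.2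

theorem cent_comm {σ : Γ →* Q} (h : σ.ker ≤ center Γ) {z : Γ} (hz : σ z = 1) (g : Γ) :
    g * z = z * g := mem_center_iff.1 (h hz) g

theorem comm_congr {ξ : X →* Q} (hξ : ξ.ker ≤ center X) {a a' b b' : X} (ha : ξ a = ξ a')
    (hb : ξ b = ξ b') : ⁅a, b⁆ = ⁅a', b'⁆ := by
  have h1 : ξ (a'⁻¹ * a) = 1 := by simp [ha]
  have h2 : ξ (b'⁻¹ * b) = 1 := by simp [hb]
  obtain ⟨z, hz, rfl⟩ : ∃ z, ξ z = 1 ∧ a = a' * z := ⟨_, h1, by group⟩
  obtain ⟨w, hw, rfl⟩ : ∃ z, ξ z = 1 ∧ b = b' * z := ⟨_, h2, by group⟩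
  have c1 := cent_comm hξ hz
  have c2 := cent_comm hξ hw
  simp only [commutatorElement_def]
  calc a' * z * (b' * w) * (a' * z)⁻¹ * (b' * w)⁻¹
      = a' * (z * (b' * w)) * z⁻¹ * a'⁻¹ * w⁻¹ * b'⁻¹ := by group
    _ = a' * b' * (w * a'⁻¹) * w⁻¹ * b'⁻¹ := by rw [← c1]; group
    _ = _ := by rw [← c2]; group

theorem eqOn_comm {ξ : X →* Q} (hξ : ξ.ker ≤ center X) {η η' : E →* X}
    (h : ∀ e, ξ (η e) = ξ (η' e)) {e : E} (he : e ∈ commutator E) : η e = η' e := by
  have : commutator E ≤ η.eqLocus η' := by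
    rw [_root_.commutator_def, commutator_le]
    intro a _ b _
    show η ⁅a, b⁆ = η' ⁅a, b⁆
    rw [map_commutatorElement, map_commutatorElement]
    exact comm_congr hξ (h a) (h b)
  exact this he

theorem map_comm {ξ : X →* Q} (hξ : ξ.ker ≤ center X) {η : E →* X}
    (h : ∀ x, ∃ e, ξ (η e) = ξ x) : (commutator E).map η = commutator X := by
  apply le_antisymm
  · rw [map_commutator_eq]; exact commutator_mono le_top le_top
  · rw [_root_.commutator_def X, commutator_le]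
    intro a _ b _
    obtain ⟨a', ha⟩ := h a
    obtain ⟨b', hb⟩ := h b
    refine ⟨⁅a', b'⁆, commutator_mem_commutator (mem_top _) (mem_top _), ?_⟩
    rw [map_commutatorElement]
    exact comm_congr hξ ha hb

theorem over_surj {ε : E →* Q} (hε : Function.Surjective ε) {ξ : X →* Q} {η : E →* X}
    (h : ∀ e, ξ (η e) = ε e) (x : X) : ∃ e, ξ (η e) = ξ x := by
  obtain ⟨e, he⟩ := hε (ξ x); exact ⟨e, by rw [h, he]⟩

theorem map_MM {ε : E →* Q} (hε : Function.Surjective ε) {ξ : X →* Q} (hξ : ξ.ker ≤ center X)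
    {η : E →* X} (h : ∀ e, ξ (η e) = ε e) : (MM ε).map η = MM ξ := by
  apply le_antisymm
  · rintro _ ⟨e, he, rfl⟩
    exact ⟨(h e).trans he.1, (map_comm hξ (over_surj hε h)).le ⟨e, he.2, rfl⟩⟩
  · intro x hx
    obtain ⟨e, he, rfl⟩ := (map_comm hξ (over_surj hε h)).ge hx.2
    exact ⟨e, ⟨(h e).symm.trans hx.1, he⟩, rfl⟩

theorem surj_of_stem {ε : E →* Q} (hε : Function.Surjective ε) {ξ : X →* Q}
    (hξ : IsStemExtension ξ) {η : E →* X} (h : ∀ e, ξ (η e) = ε e) : Function.Surjective η := by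
  intro x
  obtain ⟨e, he⟩ := over_surj hε h x
  have h1 : (η e)⁻¹ * x ∈ ξ.ker := by simp [MonoidHom.mem_ker, he]
  obtain ⟨e', -, he'⟩ := (map_comm hξ.2.1 (over_surj hε h)).ge (hξ.2.2 h1)
  exact ⟨e * e', by simp [he']⟩

/-- the induced map on `MM` -/
def mmMap {ε : E →* Q} {ξ : X →* Q} (η : E →* X) (h : ∀ e, ξ (η e) = ε e) : MM ε →* MM ξ :=
  (η.comp (MM ε).subtype).codRestrict _ (fun e => ⟨(h e).trans e.2.1, by
    have : (commutator E).map η ≤ commutator X := by
      rw [map_commutator_eq]; exact commutator_mono le_top le_top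
    exact this ⟨e, e.2.2, rfl⟩⟩)

@[simp] theorem mmMap_coe {ε : E →* Q} {ξ : X →* Q} (η : E →* X) (h : ∀ e, ξ (η e) = ε e)
    (e : MM ε) : (mmMap η h e : X) = η e := rfl

theorem mmMap_surj {ε : E →* Q} (hε : Function.Surjective ε) {ξ : X →* Q}
    (hξ : ξ.ker ≤ center X) {η : E →* X} (h : ∀ e, ξ (η e) = ε e) :
    Function.Surjective (mmMap η h) := by
  intro x
  obtain ⟨e, he, h2⟩ := (map_MM hε hξ h).ge x.2
  exact ⟨⟨e, he⟩, Subtype.ext h2⟩

theorem finite_comm [Finite Q] {ε : E →* Q} (hε : CE ε) : Finite (commutator E) := by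
  have : Finite (commutatorSet E) := by
    choose s hs using hε.surj
    refine Set.finite_coe_iff.2 ((Set.finite_range (fun p : Q × Q => ⁅s p.1, s p.2⁆)).subset ?_)
    rintro _ ⟨a, b, rfl⟩
    exact ⟨(ε a, ε b), comm_congr hε.cent (hs _) (hs _)⟩
  infer_instance

theorem finite_MM [Finite Q] {ε : E →* Q} (hε : CE ε) : Finite (MM ε) := by
  have := finite_comm hε
  exact Finite.of_injective (inclusion (inf_le_right : MM ε ≤ commutator E)) (inclusion_injective _)

end basic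

section free
variable {F Q X : Type*} [Group F] [Group Q] [Group X]

/-- `F / [R, F]` -/
abbrev cq (π : F →* Q) : Type _ := F ⧸ ⁅π.ker, (⊤ : Subgroup F)⁆

theorem cq_le (π : F →* Q) : ⁅π.ker, (⊤ : Subgroup F)⁆ ≤ π.ker := commutator_le_left _ _

/-- the projection -/
def cπ (π : F →* Q) : cq π →* Q := QuotientGroup.lift _ π (cq_le π)

@[simp] theorem cπ_mk (π : F →* Q) (x : F) : cπ π (x : cq π) = π x := rfl

theorem cπ_CE {π : F →* Q} (h : Function.Surjective π) : CE (cπ π) := by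
  refine ⟨fun q => ?_, fun z hz => ?_⟩
  · obtain ⟨x, rfl⟩ := h q; exact ⟨x, rfl⟩
  · obtain ⟨z, rfl⟩ := QuotientGroup.mk_surjective z
    rw [mem_center_iff]
    intro g
    obtain ⟨g, rfl⟩ := QuotientGroup.mk_surjective g
    rw [← QuotientGroup.mk_mul, ← QuotientGroup.mk_mul, eq_comm, QuotientGroup.eq]
    have : ⁅z⁻¹, g⁻¹⁆ ∈ ⁅π.ker, (⊤ : Subgroup F)⁆ :=
      commutator_mem_commutator (inv_mem (show z ∈ π.ker from hz)) (mem_top _)
    have h2 := inv_mem this
    convert h2 using 1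
    simp only [commutatorElement_def]; group

theorem free_lift [IsFreeGroup F] (π : F →* Q) {ξ : X →* Q} (hξ : Function.Surjective ξ) :
    ∃ η : F →* X, ∀ e, ξ (η e) = π e := by
  choose s hs using hξ
  refine ⟨IsFreeGroup.lift (fun a => s (π (IsFreeGroup.of a))), fun e => ?_⟩
  have : ξ.comp (IsFreeGroup.lift (fun a => s (π (IsFreeGroup.of a)))) = π :=
    IsFreeGroup.ext_hom (fun a => by simp [hs])
  exact DFunLike.congr_fun this e

theorem cq_lift [IsFreeGroup F] (π : F →* Q) {ξ : X →* Q} (hξ : CE ξ) :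
    ∃ η : cq π →* X, ∀ e, ξ (η e) = cπ π e := by
  obtain ⟨η, hη⟩ := free_lift π hξ.surj
  refine ⟨QuotientGroup.lift _ η ?_, fun e => ?_⟩
  · rw [commutator_le]
    intro a ha b _
    rw [MonoidHom.mem_ker, map_commutatorElement, commutatorElement_eq_one_iff_mul_comm]
    exact (cent_comm hξ.cent ((hη a).trans ha) _).symm
  · obtain ⟨e, rfl⟩ := QuotientGroup.mk_surjective e
    exact hη e

end free

/-- the standard presentation -/
def fπ (Q : Type u) [Group Q] : FreeGroup Q →* Q := FreeGroup.lift id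

theorem fπ_surj (Q : Type u) [Group Q] : Function.Surjective (fπ Q) :=
  fun q => ⟨FreeGroup.of q, by simp [fπ]⟩

/-- the universal central extension group `F/[R,F]` -/
abbrev UU (Q : Type u) [Group Q] : Type u := cq (fπ Q)

/-- its projection -/
abbrev uπ (Q : Type u) [Group Q] : UU Q →* Q := cπ (fπ Q)

theorem uπ_CE (Q : Type u) [Group Q] : CE (uπ Q) := cπ_CE (fπ_surj Q)

theorem u_lift {Q : Type u} [Group Q] {X : Type*} [Group X] {ξ : X →* Q} (hξ : CE ξ) :
    ∃ η : UU Q →* X, ∀ e, ξ (η e) = uπ Q e := cq_lift _ hξ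

/-- the Schur multiplier (Hopf formula) -/
abbrev SM (Q : Type u) [Group Q] : Subgroup (UU Q) := MM (uπ Q)

instance finite_SM (Q : Type u) [Group Q] [Finite Q] : Finite (SM Q) := finite_MM (uπ_CE Q)

theorem exists_mul_surj {Q : Type u} [Group Q] {X : Type*} [Group X] {ξ : X →* Q} (hξ : CE ξ) :
    ∃ f : SM Q →* MM ξ, Function.Surjective f := by
  obtain ⟨η, hη⟩ := u_lift hξ
  exact ⟨mmMap η hη, mmMap_surj (uπ_CE Q).surj hξ.cent hη⟩

theorem exists_section {C L : Type*} [CommGroup C] [AddCommGroup L] [Module.Free ℤ L]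
    [Module.Finite ℤ L] (φ : C →* Multiplicative L) :
    ∃ S : Subgroup C, S ⊓ φ.ker = ⊥ ∧ S ⊔ φ.ker = ⊤ := by
  let f : Additive C →ₗ[ℤ] L := (MonoidHom.toAdditiveLeft φ).toIntLinearMap
  obtain ⟨s, hs⟩ := Module.projective_lifting_property f.rangeRestrict
    (LinearMap.id : LinearMap.range f →ₗ[ℤ] LinearMap.range f) f.surjective_rangeRestrict
  have hs' : ∀ y, f (s y) = y := fun y => congrArg Subtype.val (LinearMap.congr_fun hs y)
  have hf : ∀ c : C, f (Additive.ofMul c) = (φ c).toAdd := fun c => rfl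
  refine ⟨AddSubgroup.toSubgroup' (LinearMap.range s).toAddSubgroup, ?_, ?_⟩
  · rw [eq_bot_iff]
    rintro x ⟨⟨y, hy⟩, hx⟩
    have h1 : f (s y) = 0 := by
      rw [hy]; change (φ x).toAdd = 0; rw [show φ x = 1 from hx]; rfl
    have h2 : y = 0 := Subtype.ext ((hs' y).symm.trans h1)
    rw [h2, map_zero] at hy
    exact hy.symm
  · rw [eq_top_iff]
    intro x _
    let y : LinearMap.range f := ⟨f (Additive.ofMul x), _, rfl⟩
    refine mem_sup.2 ⟨(s y).toMul, ⟨y, rfl⟩, (s y).toMul⁻¹ * x, ?_, by simp⟩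
    rw [MonoidHom.mem_ker, map_mul, map_inv]
    have : φ (s y).toMul = φ x := by
      apply Multiplicative.toAdd.injective
      exact hs' y
    rw [this, inv_mul_cancel]

/-- the abelianization map of `UU Q` into the free abelian group -/
def uab (Q : Type u) [Group Q] : UU Q →* Multiplicative (FreeAbelianGroup Q) :=
  QuotientGroup.lift _ (Abelianization.of : FreeGroup Q →* Abelianization (FreeGroup Q))
    ((commutator_mono le_top le_top).trans (Abelianization.commutator_subset_ker _))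

theorem uab_ker (Q : Type u) [Group Q] : (uab Q).ker = commutator (UU Q) := by
  have h1 : (commutator (FreeGroup Q)).map (QuotientGroup.mk' _) = commutator (UU Q) := by
    rw [map_commutator_eq, MonoidHom.range_eq_top.2 (QuotientGroup.mk'_surjective _)]; rfl
  apply le_antisymm
  · intro z hz
    obtain ⟨z, rfl⟩ := QuotientGroup.mk_surjective z
    have : z ∈ commutator (FreeGroup Q) := by rw [← Abelianization.ker_of]; exact hz
    exact h1.le ⟨z, this, rfl⟩
  · exact Abelianization.commutator_subset_ker _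

theorem uab_surj (Q : Type u) [Group Q] : Function.Surjective (uab Q) := by
  intro y
  obtain ⟨x, hx⟩ := QuotientGroup.mk_surjective (s := commutator (FreeGroup Q)) y
  exact ⟨x, hx⟩

theorem exists_compl {Q : Type u} [Group Q] [Finite Q] {K : Subgroup (UU Q)}
    (hK : K ≤ (uπ Q).ker) (hK2 : (uπ Q).ker ≤ K ⊔ SM Q) :
    ∃ S : Subgroup (UU Q), S ≤ K ∧ S ⊓ SM Q = ⊥ ∧ S ⊔ SM Q = (uπ Q).ker := by
  letI : CommGroup K := { (inferInstance : Group K) with
    mul_comm := fun a b => Subtype.ext (cent_comm (uπ_CE Q).cent (hK b.2) a) }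
  obtain ⟨S, h1, h2⟩ := exists_section ((uab Q).comp K.subtype)
  refine ⟨S.map K.subtype, map_subtype_le _, ?_, ?_⟩
  · rw [eq_bot_iff]
    rintro _ ⟨⟨x, hx, rfl⟩, hx2⟩
    have : x ∈ S ⊓ ((uab Q).comp K.subtype).ker := ⟨hx, (uab_ker Q).ge hx2.2⟩
    rw [h1, mem_bot] at this
    rw [this]; exact one_mem _
  · apply le_antisymm (sup_le ((map_subtype_le _).trans hK) inf_le_left)
    refine hK2.trans (sup_le (fun x hx => ?_) le_sup_right)
    obtain ⟨a, ha, b, hb, hab⟩ := mem_sup.1 (h2.ge (mem_top (⟨x, hx⟩ : K)))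
    have : x = a * b := (congrArg Subtype.val hab).symm
    rw [this]
    exact mul_mem_sup ⟨a, ha, rfl⟩ ⟨hK b.2, (uab_ker Q).le hb⟩

theorem mem_sup_cent {G : Type*} [Group G] {S T : Subgroup G} (hT : T ≤ center G) {x : G}
    (hx : x ∈ S ⊔ T) : ∃ s ∈ S, ∃ t ∈ T, x = s * t := by
  haveI : T.Normal := ⟨fun t ht g => by rw [mem_center_iff.1 (hT ht) g]; simpa using ht⟩
  have : x ∈ ((S ⊔ T : Subgroup G) : Set G) := hx
  rw [mul_normal] at this
  obtain ⟨s, hs, t, ht, rfl⟩ := this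
  exact ⟨s, hs, t, ht, rfl⟩

/-- A cover: stem extension `σ` with a map `β` from `UU Q` over `Q`, injective on `SM Q`. -/
structure Cover {Q : Type u} [Group Q] {Γ : Type*} [Group Γ] (σ : Γ →* Q) (β : UU Q →* Γ) :
    Prop where
  stem : IsStemExtension σ
  over : ∀ e, σ (β e) = uπ Q e
  inj : ∀ e ∈ SM Q, β e = 1 → e = 1

theorem exists_cover_of {Q : Type u} [Group Q] [Finite Q] {S : Subgroup (UU Q)}
    (h1 : S ⊓ SM Q = ⊥) (h2 : S ⊔ SM Q = (uπ Q).ker) :
    ∃ (Γ : Type u) (_ : Group Γ) (_ : Finite Γ) (σ : Γ →* Q) (β : UU Q →* Γ),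
      Cover σ β ∧ β.ker = S := by
  have hS : S ≤ (uπ Q).ker := le_sup_left.trans h2.le
  haveI : S.Normal := ⟨fun t ht g => by
    rw [cent_comm (uπ_CE Q).cent (hS ht) g]; simpa using ht⟩
  let σ : UU Q ⧸ S →* Q := QuotientGroup.lift _ (uπ Q) hS
  have hk : σ.ker ≤ (SM Q).map (QuotientGroup.mk' S) := by
    intro z hz
    obtain ⟨z, rfl⟩ := QuotientGroup.mk_surjective z
    obtain ⟨s, hs, t, ht, rfl⟩ := mem_sup_cent (inf_le_left.trans (uπ_CE Q).cent)
      (h2.ge (show z ∈ (uπ Q).ker from hz))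
    refine ⟨t, ht, ?_⟩
    rw [QuotientGroup.mk_mul, (QuotientGroup.eq_one_iff s).2 hs, one_mul]; rfl
  have hs : Function.Surjective σ := fun q => by
    obtain ⟨x, rfl⟩ := (uπ_CE Q).surj q; exact ⟨x, rfl⟩
  have hfin : Finite (UU Q ⧸ S) := by
    have : Finite σ.ker := by
      have : Finite ((SM Q).map (QuotientGroup.mk' S)) :=
        Finite.of_surjective _ ((QuotientGroup.mk' S).subgroupMap_surjective _)
      exact Finite.of_injective _ (inclusion_injective hk)
    exact (MonoidHom.finite_iff_finite_ker_range σ).2 ⟨this, inferInstance⟩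
  refine ⟨UU Q ⧸ S, inferInstance, hfin, σ, QuotientGroup.mk' S, ⟨⟨hs, hk.trans ?_, hk.trans ?_⟩,
    fun e => rfl, fun e he h => ?_⟩, QuotientGroup.ker_mk' S⟩
  · rintro _ ⟨t, ht, rfl⟩
    rw [mem_center_iff]; intro g
    obtain ⟨g, rfl⟩ := QuotientGroup.mk'_surjective S g
    rw [← map_mul, ← map_mul, cent_comm (uπ_CE Q).cent ht.1]
  · refine (map_mono inf_le_right).trans ?_
    rw [map_commutator_eq]; exact commutator_mono le_top le_top
  · have : e ∈ S ⊓ SM Q := ⟨(QuotientGroup.eq_one_iff e).1 h, he⟩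
    rwa [h1, mem_bot] at this

theorem exists_cover (Q : Type u) [Group Q] [Finite Q] :
    ∃ (Γ : Type u) (_ : Group Γ) (_ : Finite Γ) (σ : Γ →* Q) (β : UU Q →* Γ), Cover σ β := by
  obtain ⟨S, -, h1, h2⟩ := exists_compl (Q := Q) le_rfl le_sup_left
  obtain ⟨Γ, i1, i2, σ, β, h, -⟩ := exists_cover_of h1 h2
  exact ⟨Γ, i1, i2, σ, β, h⟩

namespace Cover
variable {Q : Type u} [Group Q] {Γ : Type*} [Group Γ] {σ : Γ →* Q} {β : UU Q →* Γ}

theorem surj (h : Cover σ β) : Function.Surjective β := surj_of_stem (uπ_CE Q).surj h.stem h.over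

theorem equiv (h : Cover σ β) : Nonempty (SM Q ≃* σ.ker) := by
  refine ⟨(MulEquiv.ofBijective (mmMap β h.over) ⟨?_, mmMap_surj (uπ_CE Q).surj h.stem.2.1 h.over⟩).trans
    (MulEquiv.subgroupCongr (stem_MM h.stem))⟩
  rw [injective_iff_map_eq_one]
  intro e he
  exact Subtype.ext (h.inj e e.2 (congrArg Subtype.val he))

theorem ker_le (h : Cover σ β) : β.ker ≤ (uπ Q).ker := fun e he => by
  rw [MonoidHom.mem_ker, ← h.over, show β e = 1 from he, map_one]

theorem inj_comm (h : Cover σ β) {e : UU Q} (he : e ∈ commutator (UU Q)) (h1 : β e = 1) : e = 1 :=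
  h.inj e ⟨h.ker_le h1, he⟩ h1

end Cover

theorem stem_surj {Q : Type u} [Group Q] {Γ : Type*} [Group Γ] {σ : Γ →* Q}
    (h : IsStemExtension σ) : ∃ f : SM Q →* σ.ker, Function.Surjective f := by
  obtain ⟨f, hf⟩ := exists_mul_surj (stem_CE h)
  exact ⟨(MulEquiv.subgroupCongr (stem_MM h)).toMonoidHom.comp f,
    (MulEquiv.subgroupCongr (stem_MM h)).surjective.comp hf⟩

theorem equiv_of_surj {A B : Type*} [Group A] [Group B] [Finite A] {f : A →* B} {g : B →* A}
    (hf : Function.Surjective f) (hg : Function.Surjective g) : Function.Bijective f := by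
  refine ⟨?_, hf⟩
  have : Function.Injective (g ∘ f) := Finite.injective_iff_surjective.2 (hg.comp hf)
  exact this.of_comp

theorem hasSchur_iff {Q : Type u} [Group Q] [Finite Q] {A : Type v} [CommGroup A] :
    HasSchurMultiplier Q A ↔ Nonempty (SM Q ≃* A) := by
  obtain ⟨Γ0, i1, i2, σ0, β0, h0⟩ := exists_cover Q
  obtain ⟨e0⟩ := h0.equiv
  constructor
  · rintro ⟨⟨Γ, _, _, σ, hσ, ⟨e⟩⟩, h2⟩
    obtain ⟨f, hf⟩ := stem_surj hσ
    obtain ⟨g, hg⟩ := h2 Γ0 σ0 h0.stem
    exact ⟨MulEquiv.ofBijective (e.toMonoidHom.comp f) (equiv_of_surj (g := e0.symm.toMonoidHom.comp g)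
      (e.surjective.comp hf) (e0.symm.surjective.comp hg))⟩
  · rintro ⟨e⟩
    refine ⟨⟨Γ0, i1, i2, σ0, h0.stem, ⟨e0.symm.trans e⟩⟩, fun Γ _ _ σ hσ => ?_⟩
    obtain ⟨f, hf⟩ := stem_surj hσ
    exact ⟨f.comp e.symm.toMonoidHom, hf.comp e.symm.surjective⟩

theorem cover_of_card {Q : Type u} [Group Q] [Finite Q] {Γ : Type*} [Group Γ] {σ : Γ →* Q}
    (hσ : IsStemExtension σ) (hk : Nonempty (σ.ker ≃* SM Q)) {β : UU Q →* Γ}
    (hβ : ∀ e, σ (β e) = uπ Q e) : Cover σ β := by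
  obtain ⟨e⟩ := hk
  refine ⟨hσ, hβ, fun x hx h1 => ?_⟩
  have := (equiv_of_surj (g := e.toMonoidHom.comp (MulEquiv.subgroupCongr (stem_MM hσ)).toMonoidHom)
    (mmMap_surj (uπ_CE Q).surj hσ.2.1 hβ)
    (e.surjective.comp (MulEquiv.subgroupCongr (stem_MM hσ)).surjective)).1
  rw [injective_iff_map_eq_one] at this
  exact congrArg Subtype.val (this ⟨x, hx⟩ (Subtype.ext h1))

theorem exists_cover' {Q : Type u} [Group Q] [Finite Q] {A : Type*} [CommGroup A]
    (hA : HasSchurMultiplier Q A) {Γ : Type*} [Group Γ] {σ : Γ →* Q}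
    (hσ : IsStemExtension σ) (hk : Nonempty (σ.ker ≃* A)) : ∃ β, Cover σ β := by
  obtain ⟨β, hβ⟩ := u_lift (stem_CE hσ)
  obtain ⟨e⟩ := hasSchur_iff.1 hA
  obtain ⟨e'⟩ := hk
  exact ⟨β, cover_of_card hσ ⟨e'.trans e.symm⟩ hβ⟩

theorem Cover.stem_surj {Q : Type u} [Group Q] {Γ : Type*} [Group Γ] {σ : Γ →* Q}
    {β : UU Q →* Γ} (h : Cover σ β) {Δ : Type*} [Group Δ] {τ : Δ →* Q} (hτ : IsStemExtension τ) :
    ∃ π : σ.ker →* τ.ker, Function.Surjective π := by
  obtain ⟨e⟩ := h.equiv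
  obtain ⟨f, hf⟩ := Schur.stem_surj hτ
  exact ⟨f.comp e.symm.toMonoidHom, hf.comp e.symm.surjective⟩

theorem hasSchur_one_iff {Q : Type u} [Group Q] [Finite Q] :
    HasCyclicSchurMultiplier Q 1 ↔ SM Q = ⊥ := by
  haveI : Subsingleton (Multiplicative (ZMod 1)) := inferInstanceAs (Subsingleton (ZMod 1))
  rw [HasCyclicSchurMultiplier, hasSchur_iff]
  constructor
  · rintro ⟨e⟩
    rw [eq_bot_iff]; intro x hx
    exact congrArg Subtype.val (e.injective (Subsingleton.elim (e ⟨x, hx⟩) (e 1)))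
  · intro h
    rw [h]; exact ⟨MulEquiv.ofUnique⟩

theorem MM_eq_bot {Q : Type u} [Group Q] (h : SM Q = ⊥) {X : Type*} [Group X] {ξ : X →* Q}
    (hξ : CE ξ) : MM ξ = ⊥ := by
  obtain ⟨η, hη⟩ := u_lift hξ
  rw [← map_MM (uπ_CE Q).surj hξ.cent hη]
  change (SM Q).map η = ⊥
  rw [h, Subgroup.map_bot]

/-- any free presentation computes the multiplier -/
theorem mul_equiv_free {F : Type*} [Group F] [IsFreeGroup F] {Q : Type u} [Group Q] {π : F →* Q}
    (hπ : Function.Surjective π) {η : UU Q →* cq π} (hη : ∀ e, cπ π (η e) = uπ Q e) :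
    Function.Bijective (mmMap η hη) := by
  refine ⟨?_, mmMap_surj (uπ_CE Q).surj (cπ_CE hπ).cent hη⟩
  obtain ⟨θ, hθ⟩ := cq_lift π (uπ_CE Q)
  rw [injective_iff_map_eq_one]
  intro e he
  have h1 : η e = 1 := congrArg Subtype.val he
  have h2 := eqOn_comm (uπ_CE Q).cent (η := θ.comp η) (η' := MonoidHom.id _)
    (fun x => by simp [hθ, hη]) e.2.2
  simp only [MonoidHom.comp_apply, h1, map_one, MonoidHom.id_apply] at h2
  exact Subtype.ext h2.symm

end Cfsg.Agent.Schur
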