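import Cfsg.Agent.Lib.Schur.Two

set_option autoImplicit false
open Cfsg Subgroup commutatorElement

namespace Cfsg.Agent.Schur

universe u v w

theorem CE.eq_top {Γ G : Type*} [Group Γ] [Group G] {σ : Γ →* G} (h : CE σ) {x y : Γ}
    (hgen : closure {σ x, σ y} = ⊤) {K : Subgroup Γ} (hx : x ∈ K) (hy : y ∈ K)
    (hK : center Γ ≤ K) : K = ⊤ := by
  have h1 : (closure {x, y}).map σ = ⊤ := by rw [MonoidHom.map_closure, Set.image_pair, hgen]
  have h2 := comap_map_eq σ (closure {x, y})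
  rw [h1, comap_top] at h2
  rw [eq_top_iff, h2]
  refine sup_le ((closure_le _).2 ?_) (h.cent.trans hK)
  rintro _ (rfl | rfl); exacts [hx, hy]

theorem CE.comm_le {Γ G : Type*} [Group Γ] [Group G] {σ : Γ →* G} (h : CE σ) {x y : Γ}
    (hgen : closure {σ x, σ y} = ⊤) {N : Subgroup Γ} [N.Normal] (hc : ⁅y, x⁆ ∈ N) :
    commutator Γ ≤ N := by
  let m := QuotientGroup.mk' N
  have h0 : m y * m x = m x * m y := by
    rw [← commutatorElement_eq_one_iff_mul_comm, ← map_commutatorElement]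
    exact (QuotientGroup.eq_one_iff _).2 hc
  have hz : ∀ g, center Γ ≤ (centralizer {m g}).comap m := fun g z hz => by
    rw [mem_comap, mem_centralizer_singleton_iff, ← map_mul, ← map_mul, mem_center_iff.1 hz g]
  have h1 := h.eq_top hgen (K := (centralizer {m x}).comap m) (mem_centralizer_singleton_iff.2 rfl)
    (mem_centralizer_singleton_iff.2 h0) (hz x)
  have h2 := h.eq_top hgen (K := (centralizer {m y}).comap m) (mem_centralizer_singleton_iff.2 h0.symm)
    (mem_centralizer_singleton_iff.2 rfl) (hz y)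
  rw [_root_.commutator_def, commutator_le]
  intro a _ b _
  have h3 := h.eq_top hgen (K := (centralizer {m a}).comap m)
    (mem_centralizer_singleton_iff.2 (mem_centralizer_singleton_iff.1 (h1.ge (mem_top a))).symm)
    (mem_centralizer_singleton_iff.2 (mem_centralizer_singleton_iff.1 (h2.ge (mem_top a))).symm) (hz a)
  rw [← QuotientGroup.eq_one_iff]
  change m _ = 1
  rw [map_commutatorElement, commutatorElement_eq_one_iff_mul_comm]
  exact (mem_centralizer_singleton_iff.1 (h3.ge (mem_top b))).symm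

/-- metacyclic upper bound -/
theorem meta_upper {Γ G : Type*} [Group Γ] [Group G] [Finite G] {σ : Γ →* G} (h : CE σ) {a b : G}
    (hgen : closure {a, b} = ⊤) {r : ℤ} (hr : b * a * b⁻¹ = a ^ r) :
    ∃ c : Γ, commutator Γ = zpowers c ∧ σ c = a ^ (r - 1) ∧
      (∀ k j : ℤ, a ^ k = b ^ j → c ^ k = 1) ∧
      (∀ n : ℕ, ∀ t : ℤ, b ^ n = a ^ t → c ^ (∑ i ∈ Finset.range n, r ^ i) = 1) := by
  obtain ⟨x, rfl⟩ := h.surj a
  obtain ⟨y, rfl⟩ := h.surj b
  have hc : ∀ {g g' : Γ}, σ g = σ g' → ∃ z, σ z = 1 ∧ g = g' * z := fun {g g'} e =>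
    ⟨g'⁻¹ * g, by simp [e], by group⟩
  obtain ⟨z, hz, hz'⟩ := hc (g := y * x * y⁻¹) (g' := x ^ r) (by simp [hr])
  have cz : ∀ g, Commute g z := cent_comm h.cent hz
  set c := ⁅y, x⁆ with hcd
  have e1 : c = x ^ (r - 1) * z := by
    rw [hcd, commutatorElement_def, hz', mul_assoc, ← (cz x⁻¹).eq]; group
  have cx : Commute x c := by
    rw [e1]; exact ((Commute.refl x).zpow_right _).mul_right (cz x)
  have e0 : y * x * y⁻¹ = c * x := by rw [hcd, commutatorElement_def]; group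
  have e2 : ∀ k : ℤ, ⁅y, x ^ k⁆ = c ^ k := fun k => by
    rw [commutatorElement_def, ← conj_zpow, e0, cx.symm.mul_zpow]; group
  have e3 : y * c * y⁻¹ = c ^ r := by
    have : y * c * y⁻¹ = (y * x * y⁻¹) ^ (r - 1) * z := by
      rw [conj_zpow, e1, mul_assoc (y * _) y⁻¹ z, (cz y⁻¹).eq]; group
    rw [this, hz', e1, (cz _).mul_zpow, (cz _).mul_zpow, mul_assoc, ← zpow_add_one, ← zpow_mul,
      ← zpow_mul, mul_comm r, sub_add_cancel]
  have e4 : ∀ k j : ℤ, σ x ^ k = σ y ^ j → c ^ k = 1 := fun k j hk => by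
    rw [← e2, comm_congr h.cent (rfl : σ y = σ y) (b' := y ^ j) (by simp [hk]),
      commutatorElement_eq_one_iff_commute]
    exact (Commute.refl y).zpow_right j
  have e5 : ∀ n : ℕ, ⁅y ^ n, x⁆ = c ^ (∑ i ∈ Finset.range n, r ^ i) := fun n => by
    induction n with
    | zero => simp
    | succ n ih =>
      have : ⁅y ^ (n + 1), x⁆ = y * ⁅y ^ n, x⁆ * y⁻¹ * c := by
        rw [hcd]; simp only [commutatorElement_def]; rw [pow_succ']; group
      rw [this, ih, ← conj_zpow, e3, ← zpow_mul, ← zpow_add_one, Finset.sum_range_succ', Finset.mul_sum]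
      simp only [pow_succ', pow_zero]
  have hfin : IsOfFinOrder c := isOfFinOrder_iff_pow_eq_one.2 ⟨orderOf (σ x), orderOf_pos _, by
    have := e4 (orderOf (σ x)) 0 (by simp)
    exact_mod_cast this⟩
  haveI : Finite (zpowers c) := hfin.finite_zpowers
  haveI : (zpowers c).Normal := by
    rw [← normalizer_eq_top_iff]
    refine h.eq_top hgen ?_ ?_ (center_le_normalizer _)
    · refine centralizer_le_normalizer _ ?_
      rintro _ ⟨k, rfl⟩; exact (cx.zpow_right k).symm
    · refine mem_normalizer_fintype ?_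
      rintro _ ⟨k, rfl⟩
      exact ⟨r * k, by simp only [← conj_zpow, e3, zpow_mul]⟩
  refine ⟨c, le_antisymm (h.comm_le hgen (mem_zpowers c)) ?_, by simp [e1, hz], e4, fun n t hn => ?_⟩
  · rw [zpowers_le]; exact commutator_mem_commutator (mem_top _) (mem_top _)
  · rw [← e5, comm_congr h.cent (a' := x ^ t) (by simp [hn]) (rfl : σ x = σ x),
      commutatorElement_eq_one_iff_commute]
    exact (Commute.refl x).zpow_left t

/-- cyclic multiplier from an upper and a lower bound -/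
theorem hasCyclic_of {Q : Type u} [Group Q] [Finite Q] {n : ℕ} (hn : n ≠ 0) {c : UU Q}
    (h1 : SM Q ≤ zpowers c) (h2 : c ^ n = 1) {X : Type*} [Group X] {ξ : X →* Q} (hξ : CE ξ)
    {x : X} (hx : x ∈ MM ξ) (ho : n ∣ orderOf x) : HasCyclicSchurMultiplier Q n := by
  haveI : NeZero n := ⟨hn⟩
  haveI : IsCyclic (SM Q) := isCyclic_of_le h1
  have hf : IsOfFinOrder c := isOfFinOrder_iff_pow_eq_one.2 ⟨n, Nat.pos_of_ne_zero hn, h2⟩
  haveI : Finite (zpowers c) := hf.finite_zpowers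
  have h3 : Nat.card (SM Q) ∣ n :=
    (card_dvd_of_le h1).trans (by rw [Nat.card_zpowers]; exact orderOf_dvd_of_pow_eq_one h2)
  obtain ⟨f, hf⟩ := exists_mul_surj hξ
  obtain ⟨e, he⟩ := hf ⟨x, hx⟩
  have h4 : n ∣ Nat.card (SM Q) := by
    refine ho.trans ?_
    rw [← orderOf_mk x hx, ← he]
    exact (orderOf_map_dvd f e).trans (orderOf_dvd_natCard e)
  exact hasSchur_iff.2 ⟨mulEquivOfCyclicCardEq (by rw [Nat.dvd_antisymm h3 h4]; simp)⟩

theorem SM_le {Q : Type u} [Group Q] {c : UU Q} (hc : commutator (UU Q) = zpowers c) :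
    SM Q ≤ zpowers (c ^ orderOf (uπ Q c)) := by
  intro z hz
  obtain ⟨k, rfl⟩ := hc.le hz.2
  have : uπ Q c ^ k = 1 := by rw [← map_zpow]; exact hz.1
  obtain ⟨j, rfl⟩ := orderOf_dvd_iff_zpow_eq_one.2 this
  exact ⟨j, by simp [zpow_mul]⟩

end Cfsg.Agent.Schur
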